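import Cfsg.Agent.J4Rep112.Basic
import Cfsg.Agent.CosetEnum.Present
import Cfsg.Prelude.Def_Spor_J4
import Cfsg.Agent.Eq.Def_Spor_J4

/-!
A homomorphism of the presented fourth Janko group to permutations of the bit masks of length 112,
with nontrivial image of the first generator.
-/

set_option autoImplicit false
set_option maxRecDepth 100000
set_option Elab.async false

namespace CfsgLib.J4Rep112

open Cfsg.Spor CfsgLib.CosetEnum

/-- bit masks of length 112 -/
abbrev Vec : Type := {v : ℕ // v < 2 ^ 112}

theorem mats_ok : ((List.range 6).all fun c => fixesBasis [c, c ^^^ 1]) = true := by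
  decide +kernel

theorem mats_spec {c : ℕ} (hc : c < 6) :
    fixesBasis [c, c ^^^ 1] = true :=
  List.all_eq_true.1 mats_ok c (List.mem_range.2 hc)

theorem iv_lt {c : ℕ} (hc : c < 6) : c ^^^ 1 < 6 := by
  interval_cases c <;> decide

/-- the permutation of a letter -/
noncomputable def letterPerm (c : ℕ) (hc : c < 6) : Equiv.Perm Vec where
  toFun v := ⟨vm (mats.getD c []) v.1, vm_lt _ _⟩
  invFun v := ⟨vm (mats.getD (c ^^^ 1) []) v.1, vm_lt _ _⟩
  left_inv v := by
    refine Subtype.ext ?_
    show vm (mats.getD (c ^^^ 1) []) (vm (mats.getD c []) v.1) = v.1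
    have h := act_eq_self (mats_spec (iv_lt hc)) v.2
    rwa [Nat.xor_assoc, Nat.xor_self, Nat.xor_zero] at h
  right_inv v := by
    refine Subtype.ext ?_
    exact act_eq_self (mats_spec hc) v.2

/-- values of the letters -/
noncomputable def val (c : ℕ) : Equiv.Perm Vec := if h : c < 6 then letterPerm c h else 1

theorem val_iv {c : ℕ} (hc : c < 6) : val (c ^^^ 1) = (val c)⁻¹ := by
  rw [val, val, dif_pos hc, dif_pos (iv_lt hc)]
  exact Equiv.ext fun v => Subtype.ext rfl

theorem gword_val : ∀ (w : List ℕ), (∀ c ∈ w, c < 6) → ∀ v : Vec,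
    ((gword val w) v : ℕ) = act w v.1
  | [], _, _ => rfl
  | c :: w, h, v => by
    rw [gword_cons, Equiv.Perm.mul_apply, val, dif_pos (h c List.mem_cons_self)]
    show vm (mats.getD c []) ((gword val w) v).1 = _
    rw [gword_val w (fun d hd => h d (List.mem_cons_of_mem _ hd))]
    rfl

/-- the letter of a generator -/
def enc : J4.Gen → ℕ
  | .x => 0
  | .y => 2
  | .t => 4

/-- formal inverse -/
def iv (c : ℕ) : ℕ := c ^^^ 1

/-- the relator words -/
def words : List (List ℕ) := J4.extra.map (encWord enc iv)

/-- one relator word acts trivially -/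
noncomputable def wordOK (k : ℕ) : Bool :=
  (words.getD k []).all (fun c => c.blt 6) && fixesBasis (words.getD k [])

theorem word0_ok : wordOK 0 = true := by decide +kernel

theorem word1_ok : wordOK 1 = true := by decide +kernel

theorem word2_ok : wordOK 2 = true := by decide +kernel

theorem word3_ok : wordOK 3 = true := by decide +kernel

theorem word4_ok : wordOK 4 = true := by decide +kernel

theorem word5_ok : wordOK 5 = true := by decide +kernel

theorem word6_ok : wordOK 6 = true := by decide +kernel

theorem word7_ok : wordOK 7 = true := by decide +kernel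

theorem word8_ok : wordOK 8 = true := by decide +kernel

theorem word9_ok : wordOK 9 = true := by decide +kernel

theorem word10_ok : wordOK 10 = true := by decide +kernel

theorem word11_ok : wordOK 11 = true := by decide +kernel

theorem word_ok {w : List ℕ} (hw : w ∈ words) :
    w.all (fun c => c.blt 6) = true ∧ fixesBasis w = true := by
  obtain ⟨k, hk, rfl⟩ := List.getElem_of_mem hw
  have hlen : words.length = 12 := rfl
  have h : wordOK k = true := by
    rcases (by omega : k = 0 ∨ k = 1 ∨ k = 2 ∨ k = 3 ∨ k = 4 ∨ k = 5 ∨ k = 6 ∨ k = 7 ∨ k = 8 ∨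
      k = 9 ∨ k = 10 ∨ k = 11) with rfl | rfl | rfl | rfl | rfl | rfl | rfl | rfl | rfl | rfl | rfl | rfl
    exacts [word0_ok, word1_ok, word2_ok, word3_ok, word4_ok, word5_ok, word6_ok, word7_ok,
      word8_ok, word9_ok, word10_ok, word11_ok]
  rw [wordOK, Bool.and_eq_true, List.getD_eq_getElem _ _ hk] at h
  exact h

theorem edges_empty : coxRelators J4.edges = (∅ : Set (FreeGroup J4.Gen)) := by
  rw [Set.eq_empty_iff_forall_notMem]
  rintro r ⟨a, ha, -⟩
  simp [coxNodes, J4.edges] at ha

theorem rel_ok : ∀ r ∈ coxRelators J4.edges ∪ {r | r ∈ J4.extra},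
    FreeGroup.lift (fun a => val (enc a)) r = 1 := by
  intro r hr
  rw [edges_empty, Set.empty_union, Set.mem_ofPred_eq] at hr
  rw [map_eq_gword enc iv (FreeGroup.lift fun a => val (enc a)) val
    (fun a => FreeGroup.lift_apply_of)
    (fun a => by rw [FreeGroup.lift_apply_of]; exact (val_iv (by cases a <;> decide)).symm) r]
  have h := word_ok (List.mem_map.2 ⟨r, hr, rfl⟩)
  simp only [List.all_eq_true, Nat.blt, Nat.ble_eq] at h
  refine Equiv.ext fun v => Subtype.ext ?_
  rw [gword_val _ h.1, act_eq_self h.2 v.2]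
  rfl

/-- the representation -/
noncomputable def rep : J4 →* Equiv.Perm Vec := PresentedGroup.toGroup rel_ok

theorem rep_x_ne_one : rep (PresentedGroup.of J4.Gen.x) ≠ 1 := by
  intro h
  have h1 : (fixesBasis [0]) = true := by
    refine List.all_eq_true.2 fun i hi => ?_
    have hlt : 2 ^ i < 2 ^ 112 := Nat.pow_lt_pow_right (by norm_num) (List.mem_range.1 hi)
    have e := congrArg (fun g : Equiv.Perm Vec => (g ⟨2 ^ i, hlt⟩).1) h
    rw [rep, PresentedGroup.toGroup.of] at e
    rw [show val (enc J4.Gen.x) = letterPerm 0 (by norm_num) from dif_pos (by norm_num : 0 < 6)] at e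
    change vm (mats.getD 0 []) (2 ^ i) = 2 ^ i at e
    simp only [act]
    rw [e]
    exact Nat.beq_refl _
  exact absurd h1 (by decide +kernel)

end CfsgLib.J4Rep112
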