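import Cfsg.Agent.J4Rep112.Data
import Mathlib.Data.Nat.Bitwise
import Mathlib.GroupTheory.Perm.Basic

/-!
Matrices over two elements as lists of bit masks, acting on bit masks, and the permutations
they give.
-/

set_option autoImplicit false

namespace CfsgLib.J4Rep112

/-- the entry of a group of four rows at a number below 16 -/
def entry (T a : ℕ) : ℕ :=
  Nat.mod (Nat.shiftRight T (Nat.mul 112 a)) 5192296858534827628530496329220096

/-- image of a bit mask under the matrix with the given tables, four bits at a time -/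
noncomputable def vm (M : List ℕ) : ℕ → ℕ :=
  List.rec (motive := fun _ => ℕ → ℕ) (fun _ => 0)
    (fun T _ k v => Nat.xor (entry T (Nat.mod v 16)) (k (Nat.div v 16))) M

theorem vm_nil (v : ℕ) : vm [] v = 0 := rfl

theorem vm_cons (T : ℕ) (M : List ℕ) (v : ℕ) :
    vm (T :: M) v = entry T (v % 16) ^^^ vm M (v / 16) := rfl

/-- the tables are additive -/
def addOK (M : List ℕ) : Bool :=
  M.all fun T => (List.range 16).all fun a => (List.range 16).all fun b =>
    Nat.beq (entry T (a ^^^ b)) (entry T a ^^^ entry T b)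

theorem vm_xor : ∀ (M : List ℕ), addOK M = true → ∀ a b : ℕ,
    vm M (a ^^^ b) = vm M a ^^^ vm M b
  | [], _, _, _ => by simp [vm_nil]
  | T :: M, h, a, b => by
    rw [addOK, List.all_cons, Bool.and_eq_true] at h
    have h1 : (a ^^^ b) % 16 = a % 16 ^^^ b % 16 := Nat.xor_mod_two_pow (n := 4)
    have h2 : (a ^^^ b) / 16 = a / 16 ^^^ b / 16 := Nat.xor_div_two_pow (n := 4)
    have hT := List.all_eq_true.1 (List.all_eq_true.1 h.1 (a % 16) (List.mem_range.2 (by omega)))
      (b % 16) (List.mem_range.2 (by omega))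
    rw [vm_cons, vm_cons, vm_cons, h1, h2, Nat.eq_of_beq_eq_true hT, vm_xor M h.2,
      Nat.xor_assoc, Nat.xor_assoc]
    congr 1
    rw [← Nat.xor_assoc, ← Nat.xor_assoc, Nat.xor_comm (entry T (b % 16))]

theorem vm_lt : ∀ (M : List ℕ) (v : ℕ), vm M v < 2 ^ 112
  | [], _ => by simp [vm_nil]
  | T :: M, v => by
    rw [vm_cons]
    refine Nat.xor_lt_two_pow ?_ (vm_lt M _)
    exact Nat.mod_lt _ (by decide)

/-- an additive map fixing the basis vectors fixes everything -/
theorem eq_self_of_basis (f : ℕ → ℕ) (hf : ∀ a b, f (a ^^^ b) = f a ^^^ f b) :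
    ∀ n, (∀ i < n, f (2 ^ i) = 2 ^ i) → ∀ v < 2 ^ n, f v = v
  | 0, _, v, hv => by
    have : v = 0 := by simpa using hv
    subst this
    have := hf 0 0
    simpa using this
  | n + 1, h, v, hv => by
    have ih := eq_self_of_basis f hf n fun i hi => h i (by omega)
    by_cases hlt : v < 2 ^ n
    · exact ih v hlt
    · have hw : v ^^^ 2 ^ n < 2 ^ n := by
        refine Nat.lt_pow_two_of_testBit _ fun i hi => ?_
        rw [Nat.testBit_xor]
        rcases eq_or_lt_of_le hi with rfl | hlt'
        · have : v.testBit n = true := by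
            rw [Nat.testBit_eq_decide_div_mod_eq, decide_eq_true_eq]
            have : v / 2 ^ n = 1 := Nat.div_eq_of_lt_le (by omega) (by rw [pow_succ] at hv; omega)
            rw [this]
          simp [this]
        · rw [Nat.testBit_eq_false_of_lt (lt_of_lt_of_le hv (Nat.pow_le_pow_right Nat.two_pos (show n + 1 ≤ i from hlt')))]
          simp [Nat.testBit_two_pow, ne_of_lt hlt']
      have e : v = v ^^^ 2 ^ n ^^^ 2 ^ n := by simp [Nat.xor_assoc]
      nth_rw 1 [e]
      rw [hf, ih _ hw, h n (by omega), ← e]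

/-- the matrices of the six letters -/
def mats : List (List ℕ) := [Tab.matX, Tab.matX, Tab.matY, Tab.matYi, Tab.matT, Tab.matT]

/-- the action of a word on a bit mask -/
noncomputable def act : List ℕ → ℕ → ℕ
  | [], v => v
  | c :: w, v => vm (mats.getD c []) (act w v)

theorem mats_addOK : mats.all addOK = true := by decide +kernel

theorem act_xor : ∀ (w : List ℕ) (a b : ℕ), act w (a ^^^ b) = act w a ^^^ act w b
  | [], _, _ => rfl
  | c :: w, a, b => by
    rw [act, act, act, act_xor w]
    by_cases hc : c < mats.length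
    · rw [List.getD_eq_getElem _ _ hc]
      exact vm_xor _ (List.all_eq_true.1 mats_addOK _ (List.getElem_mem hc)) _ _
    · rw [List.getD_eq_default _ _ (not_lt.1 hc), vm_nil, vm_nil, vm_nil, Nat.xor_self]

/-- the word fixes the basis -/
noncomputable def fixesBasis (w : List ℕ) : Bool :=
  (List.range 112).all fun i => Nat.beq (act w (2 ^ i)) (2 ^ i)

theorem act_eq_self {w : List ℕ} (h : fixesBasis w = true) {v : ℕ} (hv : v < 2 ^ 112) :
    act w v = v :=
  eq_self_of_basis (act w) (act_xor w) 112
    (fun i hi => Nat.eq_of_beq_eq_true (List.all_eq_true.1 h i (List.mem_range.2 hi))) v hv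

end CfsgLib.J4Rep112
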